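import Mathlib
import Cfsg.Agent.Lib.H27.OutM23
import Cfsg.Agent.Lib.H28.OrderThreeFree

/-!
# Certificates for `(p, q, r)`-generation of `M23`

A certificate gives words `wx`, `wy` (in the letters of the generators of `M24`) fixing the point `∞`,
their index tables, and two meta-words in `x^±1, y^±1` that evaluate to the generators `S` and `U` of `M23`.
-/

set_option autoImplicit false

namespace Cfsg.Agent.Lib.H5.M23Gen

open Cfsg Cfsg.Agent.Lib.H28 Cfsg.Agent.Lib.H27 Cfsg.Agent.Lib.H27.OutM

/-! ### `M23 = ⟨S, U⟩` -/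

/-- the word of `d` in `S` and `U` -/
def dw' : List ℕ := [1, 3, 1, 3, 0, 4, 0, 0, 4, 0, 4, 0, 3]

theorem dw'_eq : eqW dw dw' = true := by decide +kernel

theorem closure_SU : Subgroup.closure {wordPerm [0], wordPerm [3]} = Spor.M23 := by
  apply le_antisymm
  · rw [Subgroup.closure_le]
    rintro g (rfl | rfl)
    · exact wordPerm_mem_M23 (by decide +kernel)
    · exact wordPerm_mem_M23 (by decide +kernel)
  · rw [← K23_eq, K23, Subgroup.closure_le]
    have hS : wordPerm [0] ∈ Subgroup.closure {wordPerm [0], wordPerm [3]} :=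
      Subgroup.subset_closure (by simp)
    have hU : wordPerm [3] ∈ Subgroup.closure {wordPerm [0], wordPerm [3]} :=
      Subgroup.subset_closure (by simp)
    have hSi : wordPerm [1] ∈ Subgroup.closure {wordPerm [0], wordPerm [3]} := by
      have : wordPerm [1] = (wordPerm [0])⁻¹ := wordPerm_invWord [0]
      rw [this]; exact Subgroup.inv_mem _ hS
    have hUi : wordPerm [4] ∈ Subgroup.closure {wordPerm [0], wordPerm [3]} := by
      have : wordPerm [4] = (wordPerm [3])⁻¹ := wordPerm_invWord [3]
      rw [this]; exact Subgroup.inv_mem _ hU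
    have hlet : ∀ a ∈ dw', wordPerm [a] ∈ Subgroup.closure {wordPerm [0], wordPerm [3]} := by
      intro a ha
      have : a = 0 ∨ a = 1 ∨ a = 3 ∨ a = 4 := by
        revert a
        decide
      rcases this with rfl | rfl | rfl | rfl
      · exact hS
      · exact hSi
      · exact hU
      · exact hUi
    have hword : ∀ w : List ℕ, (∀ a ∈ w, wordPerm [a] ∈ Subgroup.closure {wordPerm [0], wordPerm [3]}) →
        wordPerm w ∈ Subgroup.closure {wordPerm [0], wordPerm [3]} := by
      intro w
      induction w with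
      | nil => intro _; exact Subgroup.one_mem _
      | cons a w ih =>
        intro h
        have : wordPerm (a :: w) = wordPerm [a] * wordPerm w := by
          rw [← wordPerm_append]; rfl
        rw [this]
        exact Subgroup.mul_mem _ (h a (List.mem_cons_self ..))
          (ih (fun b hb => h b (List.mem_cons_of_mem _ hb)))
    rintro g (rfl | rfl | rfl)
    · exact hS
    · rw [wordPerm_eq_of_eqW dw'_eq]
      exact hword dw' hlet
    · exact hU

/-! ### Tables and meta-words -/

/-- `t` is the index table of the word `w` -/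
def tabOK (w t : List ℕ) : Bool := (List.range 24).all fun k => evalPt w k == t.getD k 0

theorem tabOK_spec {w t : List ℕ} (h : tabOK w t = true) (p : GolayPt) :
    gIdx (wordPerm w p) = t.getD (gIdx p) 0 := by
  rw [gIdx_wordPerm]
  have := List.all_eq_true.1 h (gIdx p) (List.mem_range.2 (gIdx_lt p))
  rwa [beq_iff_eq] at this

/-- the words of the meta-letters `0 ↦ x`, `1 ↦ x⁻¹`, `2 ↦ y`, `_ ↦ y⁻¹` -/
def selW (wx wy : List ℕ) : ℕ → List ℕ
  | 0 => wx
  | 1 => invWord wx
  | 2 => wy
  | _ => invWord wy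

/-- the tables of the meta-letters -/
def selT (tx txi ty tyi : List ℕ) : ℕ → List ℕ
  | 0 => tx
  | 1 => txi
  | 2 => ty
  | _ => tyi

/-- evaluation of a meta-word on tables -/
def evalM (T : ℕ → List ℕ) : List ℕ → ℕ → ℕ
  | [], k => k
  | a :: m, k => (T a).getD (evalM T m k) 0

/-- the word of a meta-word -/
def metaW (W : ℕ → List ℕ) (m : List ℕ) : List ℕ := m.flatMap W

theorem metaW_cons (W : ℕ → List ℕ) (a : ℕ) (m : List ℕ) : metaW W (a :: m) = W a ++ metaW W m := by
  unfold metaW
  rw [List.flatMap_cons]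

theorem gIdx_metaW {W T : ℕ → List ℕ} (h : ∀ a, tabOK (W a) (T a) = true) (m : List ℕ) (p : GolayPt) :
    gIdx (wordPerm (metaW W m) p) = evalM T m (gIdx p) := by
  induction m with
  | nil => rfl
  | cons a m ih =>
    rw [metaW_cons, wordPerm_append, Equiv.Perm.mul_apply, tabOK_spec (h a), ih]
    rfl

theorem metaW_mem (wx wy : List ℕ) (m : List ℕ) :
    wordPerm (metaW (selW wx wy) m) ∈ Subgroup.closure {wordPerm wx, wordPerm wy} := by
  induction m with
  | nil => exact Subgroup.one_mem _
  | cons a m ih =>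
    rw [metaW_cons, wordPerm_append]
    refine Subgroup.mul_mem _ ?_ ih
    have hx : wordPerm wx ∈ Subgroup.closure {wordPerm wx, wordPerm wy} :=
      Subgroup.subset_closure (by simp)
    have hy : wordPerm wy ∈ Subgroup.closure {wordPerm wx, wordPerm wy} :=
      Subgroup.subset_closure (by simp)
    match a with
    | 0 => exact hx
    | 1 => show wordPerm (invWord wx) ∈ _
           rw [wordPerm_invWord]; exact Subgroup.inv_mem _ hx
    | 2 => exact hy
    | (n + 3) => show wordPerm (invWord wy) ∈ _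
                 rw [wordPerm_invWord]; exact Subgroup.inv_mem _ hy

theorem wordPerm_metaW_replicate (W : ℕ → List ℕ) (u : List ℕ) (n : ℕ) :
    wordPerm (metaW W (List.replicate n u).flatten) = (wordPerm (metaW W u)) ^ n := by
  induction n with
  | zero => rfl
  | succ n ih =>
    rw [List.replicate_succ, List.flatten_cons, metaW, List.flatMap_append, wordPerm_append, pow_succ']
    exact congrArg _ ih

/-- the meta-word evaluates to the identity -/
def isIdM (T : ℕ → List ℕ) (m : List ℕ) : Bool := (List.range 24).all fun k => evalM T m k == k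

/-- the meta-word does not evaluate to the identity -/
def neIdM (T : ℕ → List ℕ) (m : List ℕ) : Bool := (List.range 24).any fun k => evalM T m k != k

/-- the meta-word evaluates to the word `w` -/
def eqM (T : ℕ → List ℕ) (m w : List ℕ) : Bool := (List.range 24).all fun k => evalM T m k == evalPt w k

theorem eq_of_eqM {W T : ℕ → List ℕ} (h : ∀ a, tabOK (W a) (T a) = true) {m w : List ℕ}
    (hm : eqM T m w = true) : wordPerm (metaW W m) = wordPerm w := by
  apply Equiv.ext
  intro p
  apply gIdx_injective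
  rw [gIdx_metaW h, gIdx_wordPerm]
  have := List.all_eq_true.1 hm (gIdx p) (List.mem_range.2 (gIdx_lt p))
  rwa [beq_iff_eq] at this

theorem eq_one_of_isIdM {W T : ℕ → List ℕ} (h : ∀ a, tabOK (W a) (T a) = true) {m : List ℕ}
    (hm : isIdM T m = true) : wordPerm (metaW W m) = 1 := by
  apply Equiv.ext
  intro p
  apply gIdx_injective
  rw [gIdx_metaW h]
  have := List.all_eq_true.1 hm (gIdx p) (List.mem_range.2 (gIdx_lt p))
  rw [beq_iff_eq] at this
  rw [this]
  rfl

theorem ne_one_of_neIdM {W T : ℕ → List ℕ} (h : ∀ a, tabOK (W a) (T a) = true) {m : List ℕ}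
    (hm : neIdM T m = true) : wordPerm (metaW W m) ≠ 1 := by
  intro h1
  obtain ⟨k, hk, hk'⟩ := List.any_eq_true.1 hm
  rw [List.mem_range] at hk
  have h2 := gIdx_metaW h m (gPt k)
  rw [h1, Equiv.Perm.one_apply, gIdx_gPt hk] at h2
  rw [bne_iff_ne] at hk'
  exact hk' h2.symm

/-! ### Certificates -/

/-- a generation certificate -/
structure Cert where
  /-- the order of `x` -/
  p : ℕ
  /-- the order of `y` -/
  q : ℕ
  /-- the order of `x y` -/
  r : ℕ
  /-- the word of `x` -/
  wx : List ℕ
  /-- the word of `y` -/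
  wy : List ℕ
  /-- the table of `x` -/
  tx : List ℕ
  /-- the table of `x⁻¹` -/
  txi : List ℕ
  /-- the table of `y` -/
  ty : List ℕ
  /-- the table of `y⁻¹` -/
  tyi : List ℕ
  /-- the meta-word of `S` -/
  ms : List ℕ
  /-- the meta-word of `U` -/
  mu : List ℕ

/-- the check of a certificate -/
def check (c : Cert) : Bool :=
  tabOK c.wx c.tx && tabOK (invWord c.wx) c.txi && tabOK c.wy c.ty && tabOK (invWord c.wy) c.tyi &&
  c.tx.getD 23 0 == 23 && c.ty.getD 23 0 == 23 &&
  isIdM (selT c.tx c.txi c.ty c.tyi) (List.replicate c.p [0]).flatten &&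
  neIdM (selT c.tx c.txi c.ty c.tyi) [0] &&
  isIdM (selT c.tx c.txi c.ty c.tyi) (List.replicate c.q [2]).flatten &&
  neIdM (selT c.tx c.txi c.ty c.tyi) [2] &&
  isIdM (selT c.tx c.txi c.ty c.tyi) (List.replicate c.r [0, 2]).flatten &&
  neIdM (selT c.tx c.txi c.ty c.tyi) [0, 2] &&
  eqM (selT c.tx c.txi c.ty c.tyi) c.ms [0] &&
  eqM (selT c.tx c.txi c.ty c.tyi) c.mu [3]

theorem check_sound (c : Cert) (h : check c = true) (hp : c.p.Prime) (hq : c.q.Prime) (hr : c.r.Prime) :
    ∃ x y z : Spor.M23, orderOf x = c.p ∧ orderOf y = c.q ∧ orderOf z = c.r ∧ x * y * z = 1 ∧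
      Subgroup.closure {x, y} = ⊤ := by
  unfold check at h
  simp only [Bool.and_eq_true, beq_iff_eq] at h
  obtain ⟨⟨⟨⟨⟨⟨⟨⟨⟨⟨⟨⟨⟨h1, h2⟩, h3⟩, h4⟩, h5⟩, h6⟩, h7⟩, h8⟩, h9⟩, h10⟩, h11⟩, h12⟩, h13⟩, h14⟩ := h
  have hT : ∀ a, tabOK (selW c.wx c.wy a) (selT c.tx c.txi c.ty c.tyi a) = true := by
    intro a
    match a with
    | 0 => exact h1
    | 1 => exact h2
    | 2 => exact h3
    | (n + 3) => exact h4
  have hfx : evalPt c.wx 23 = 23 := by
    have := List.all_eq_true.1 h1 23 (by decide)
    rw [beq_iff_eq] at this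
    rw [this, h5]
  have hfy : evalPt c.wy 23 = 23 := by
    have := List.all_eq_true.1 h3 23 (by decide)
    rw [beq_iff_eq] at this
    rw [this, h6]
  have mW0 : metaW (selW c.wx c.wy) [0] = c.wx := by
    show c.wx ++ [] = c.wx
    rw [List.append_nil]
  have mW2 : metaW (selW c.wx c.wy) [2] = c.wy := by
    show c.wy ++ [] = c.wy
    rw [List.append_nil]
  have mW02 : metaW (selW c.wx c.wy) [0, 2] = c.wx ++ c.wy := by
    show c.wx ++ (c.wy ++ []) = c.wx ++ c.wy
    rw [List.append_nil]
  -- orders in `Perm`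
  have ox : orderOf (wordPerm c.wx) = c.p := by
    have : Fact c.p.Prime := ⟨hp⟩
    apply orderOf_eq_prime
    · have := eq_one_of_isIdM hT h7
      rwa [wordPerm_metaW_replicate, mW0] at this
    · have := ne_one_of_neIdM hT h8
      rwa [mW0] at this
  have oy : orderOf (wordPerm c.wy) = c.q := by
    have : Fact c.q.Prime := ⟨hq⟩
    apply orderOf_eq_prime
    · have := eq_one_of_isIdM hT h9
      rwa [wordPerm_metaW_replicate, mW2] at this
    · have := ne_one_of_neIdM hT h10
      rwa [mW2] at this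
  have oxy : orderOf (wordPerm c.wx * wordPerm c.wy) = c.r := by
    have : Fact c.r.Prime := ⟨hr⟩
    apply orderOf_eq_prime
    · have := eq_one_of_isIdM hT h11
      rwa [wordPerm_metaW_replicate, mW02, wordPerm_append] at this
    · have := ne_one_of_neIdM hT h12
      rwa [mW02, wordPerm_append] at this
  -- the elements
  let x : Spor.M23 := ⟨wordPerm c.wx, wordPerm_mem_M23 hfx⟩
  let y : Spor.M23 := ⟨wordPerm c.wy, wordPerm_mem_M23 hfy⟩
  refine ⟨x, y, (x * y)⁻¹, ?_, ?_, ?_, mul_inv_cancel _, ?_⟩
  · rw [← Subgroup.orderOf_coe]; exact ox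
  · rw [← Subgroup.orderOf_coe]; exact oy
  · rw [orderOf_inv, ← Subgroup.orderOf_coe]; exact oxy
  · -- generation
    rw [eq_top_iff]
    intro g _
    have hmap : Subgroup.map Spor.M23.subtype (Subgroup.closure {x, y}) =
        Subgroup.closure {wordPerm c.wx, wordPerm c.wy} := by
      rw [MonoidHom.map_closure]
      congr 1
      rw [Set.image_pair]
      rfl
    have hS : wordPerm [0] ∈ Subgroup.closure {wordPerm c.wx, wordPerm c.wy} := by
      rw [← eq_of_eqM hT h13]; exact metaW_mem _ _ _
    have hU : wordPerm [3] ∈ Subgroup.closure {wordPerm c.wx, wordPerm c.wy} := by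
      rw [← eq_of_eqM hT h14]; exact metaW_mem _ _ _
    have hle : Spor.M23 ≤ Subgroup.closure {wordPerm c.wx, wordPerm c.wy} := by
      rw [← closure_SU, Subgroup.closure_le]
      rintro g (rfl | rfl)
      · exact hS
      · exact hU
    have hg := hle g.2
    rw [← hmap, Subgroup.mem_map] at hg
    obtain ⟨g', hg', hgg⟩ := hg
    have : g' = g := Subtype.ext hgg
    rw [← this]; exact hg'

end Cfsg.Agent.Lib.H5.M23Gen
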