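import Mathlib
import Cfsg.Agent.Lib.H5.M23Gen.Basic

/-!
# The 40 generation certificates for `M23`
-/

set_option autoImplicit false

namespace Cfsg.Agent.Lib.H5.M23Gen

/-- the certificates -/
def certs : List Cert := [
  { p := 2, q := 5, r := 11, wx := [3, 0, 3, 0, 3, 0], wy := [3, 3, 1, 3],
    tx := [0, 1, 3, 2, 15, 5, 6, 8, 7, 11, 19, 9, 16, 21, 17, 4, 12, 14, 18, 10, 20, 13, 22, 23],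
    txi := [0, 1, 3, 2, 15, 5, 6, 8, 7, 11, 19, 9, 16, 21, 17, 4, 12, 14, 18, 10, 20, 13, 22, 23],
    ty := [17, 19, 20, 1, 4, 7, 0, 6, 15, 22, 18, 2, 21, 13, 9, 11, 16, 5, 3, 10, 8, 14, 12, 23],
    tyi := [6, 3, 11, 18, 4, 17, 7, 5, 20, 14, 19, 15, 22, 13, 21, 8, 16, 0, 10, 1, 2, 12, 9, 23],
    ms := [3, 0, 3, 0, 2, 2, 0, 2, 2, 0, 3, 0, 2, 2, 1, 2, 1, 2, 2, 1, 3, 3, 1, 2, 1, 3, 3],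
    mu := [2, 0, 3, 0, 3, 0, 3, 3, 0, 3, 3, 0, 3, 3, 1, 3, 1, 2] },
  { p := 2, q := 5, r := 23, wx := [3, 0, 3, 0, 3, 0], wy := [0, 4, 0, 0, 3],
    tx := [0, 1, 3, 2, 15, 5, 6, 8, 7, 11, 19, 9, 16, 21, 17, 4, 12, 14, 18, 10, 20, 13, 22, 23],
    txi := [0, 1, 3, 2, 15, 5, 6, 8, 7, 11, 19, 9, 16, 21, 17, 4, 12, 14, 18, 10, 20, 13, 22, 23],
    ty := [5, 22, 13, 8, 19, 1, 4, 11, 2, 0, 14, 6, 21, 18, 12, 15, 16, 17, 3, 7, 10, 20, 9, 23],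
    tyi := [9, 5, 8, 18, 6, 0, 11, 19, 3, 22, 20, 7, 14, 2, 10, 15, 16, 17, 13, 4, 21, 12, 1, 23],
    ms := [2, 0, 3, 0, 2, 2, 0, 3, 0, 3, 0, 2, 2, 1, 2, 2, 1, 2, 2, 1, 3, 1, 3, 1, 3, 3],
    mu := [0, 2, 0, 2, 2, 0, 3, 3, 0, 2, 0, 2, 0, 2, 1, 2, 1, 2, 1, 2, 1, 2, 1, 2, 1, 3, 1] },
  { p := 2, q := 7, r := 7, wx := [3, 0, 3, 0, 3, 0], wy := [0, 0, 0, 3],
    tx := [0, 1, 3, 2, 15, 5, 6, 8, 7, 11, 19, 9, 16, 21, 17, 4, 12, 14, 18, 10, 20, 13, 22, 23],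
    txi := [0, 1, 3, 2, 15, 5, 6, 8, 7, 11, 19, 9, 16, 21, 17, 4, 12, 14, 18, 10, 20, 13, 22, 23],
    ty := [3, 21, 9, 6, 5, 1, 4, 8, 19, 15, 10, 22, 11, 12, 20, 18, 16, 14, 7, 2, 13, 0, 17, 23],
    tyi := [21, 5, 19, 0, 6, 4, 3, 18, 7, 2, 10, 12, 13, 20, 17, 9, 16, 22, 15, 8, 14, 1, 11, 23],
    ms := [0, 2, 2, 0, 3, 0, 2, 2, 2, 0, 3, 3, 0, 3, 3, 1, 3, 3, 3, 1, 2, 2, 1, 3, 1],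
    mu := [0, 2, 0, 3, 3, 0, 2, 0, 2, 0, 3, 3, 1, 2, 1, 3, 3, 1, 3, 1, 3, 3, 3, 1] },
  { p := 2, q := 7, r := 11, wx := [3, 0, 3, 0, 3, 0], wy := [0, 3, 0, 0],
    tx := [0, 1, 3, 2, 15, 5, 6, 8, 7, 11, 19, 9, 16, 21, 17, 4, 12, 14, 18, 10, 20, 13, 22, 23],
    txi := [0, 1, 3, 2, 15, 5, 6, 8, 7, 11, 19, 9, 16, 21, 17, 4, 12, 14, 18, 10, 20, 13, 22, 23],
    ty := [7, 4, 3, 22, 2, 6, 17, 13, 8, 20, 9, 10, 18, 16, 14, 12, 5, 0, 11, 21, 15, 1, 19, 23],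
    tyi := [17, 21, 4, 2, 1, 16, 5, 0, 8, 10, 11, 18, 15, 7, 14, 20, 13, 6, 12, 22, 9, 19, 3, 23],
    ms := [3, 0, 2, 2, 0, 3, 3, 0, 2, 0, 2, 1, 2, 2, 2],
    mu := [2, 0, 3, 0, 2, 2, 0, 3, 3, 3, 0, 2, 1, 3, 1, 3, 1, 3, 1, 2, 2, 2, 1, 2] },
  { p := 2, q := 7, r := 23, wx := [3, 0, 3, 0, 3, 0], wy := [0, 3, 0, 3, 3],
    tx := [0, 1, 3, 2, 15, 5, 6, 8, 7, 11, 19, 9, 16, 21, 17, 4, 12, 14, 18, 10, 20, 13, 22, 23],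
    txi := [0, 1, 3, 2, 15, 5, 6, 8, 7, 11, 19, 9, 16, 21, 17, 4, 12, 14, 18, 10, 20, 13, 22, 23],
    ty := [19, 22, 7, 3, 6, 21, 0, 15, 18, 13, 2, 1, 12, 10, 9, 14, 8, 11, 4, 16, 17, 20, 5, 23],
    tyi := [6, 11, 10, 3, 18, 22, 4, 2, 16, 14, 13, 17, 12, 9, 15, 7, 19, 20, 8, 0, 21, 5, 1, 23],
    ms := [0, 2, 0, 3, 0, 3, 0, 3, 0, 2, 0, 2, 0, 2, 1, 2, 1, 2, 1, 3, 3, 1, 3, 1, 3, 1],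
    mu := [3, 3, 0, 3, 0, 2, 0, 2, 2, 0, 3, 3, 0, 3, 3, 1, 2, 2, 2, 1, 2, 1, 3, 3, 3] },
  { p := 2, q := 11, r := 11, wx := [3, 0, 3, 0, 3, 0], wy := [0, 4, 0, 3],
    tx := [0, 1, 3, 2, 15, 5, 6, 8, 7, 11, 19, 9, 16, 21, 17, 4, 12, 14, 18, 10, 20, 13, 22, 23],
    txi := [0, 1, 3, 2, 15, 5, 6, 8, 7, 11, 19, 9, 16, 21, 17, 4, 12, 14, 18, 10, 20, 13, 22, 23],
    ty := [7, 12, 11, 19, 4, 20, 5, 3, 15, 17, 13, 22, 14, 21, 2, 9, 0, 10, 8, 1, 18, 6, 16, 23],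
    tyi := [16, 19, 14, 7, 4, 6, 21, 0, 18, 15, 17, 2, 1, 10, 12, 8, 22, 9, 20, 3, 5, 13, 11, 23],
    ms := [2, 0, 3, 0, 2, 0, 3, 3, 0, 2, 0, 2, 1, 2, 1, 3, 1, 2, 2, 2, 2, 1],
    mu := [2, 0, 2, 2, 0, 3, 0, 3, 3, 0, 3, 3, 1, 3, 3, 1, 2, 2, 1, 3, 1, 3, 3, 3] },
  { p := 2, q := 11, r := 23, wx := [3, 0, 3, 0, 3, 0], wy := [0, 3, 0, 4],
    tx := [0, 1, 3, 2, 15, 5, 6, 8, 7, 11, 19, 9, 16, 21, 17, 4, 12, 14, 18, 10, 20, 13, 22, 23],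
    txi := [0, 1, 3, 2, 15, 5, 6, 8, 7, 11, 19, 9, 16, 21, 17, 4, 12, 14, 18, 10, 20, 13, 22, 23],
    ty := [19, 6, 22, 3, 0, 17, 4, 20, 10, 18, 21, 5, 8, 12, 1, 14, 13, 16, 7, 9, 15, 2, 11, 23],
    tyi := [4, 14, 21, 3, 6, 11, 1, 18, 12, 19, 8, 22, 13, 16, 15, 20, 17, 5, 9, 0, 7, 10, 2, 23],
    ms := [0, 3, 3, 3, 3, 3, 0, 2, 2, 0, 3, 0, 3, 1, 3, 3, 1, 3, 1, 3, 3, 3, 3],
    mu := [0, 3, 3, 3, 0, 2, 2, 2, 2, 0, 3, 3, 3, 3, 1, 3, 3, 3, 3, 3, 1] },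
  { p := 2, q := 23, r := 23, wx := [3, 0, 3, 0, 3, 0], wy := [4, 0, 3],
    tx := [0, 1, 3, 2, 15, 5, 6, 8, 7, 11, 19, 9, 16, 21, 17, 4, 12, 14, 18, 10, 20, 13, 22, 23],
    txi := [0, 1, 3, 2, 15, 5, 6, 8, 7, 11, 19, 9, 16, 21, 17, 4, 12, 14, 18, 10, 20, 13, 22, 23],
    ty := [6, 11, 10, 18, 3, 19, 4, 2, 14, 16, 12, 21, 13, 20, 1, 8, 22, 9, 7, 0, 17, 5, 15, 23],
    tyi := [19, 14, 7, 4, 6, 21, 0, 18, 15, 17, 2, 1, 10, 12, 8, 22, 9, 20, 3, 5, 13, 11, 16, 23],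
    ms := [3, 3, 0, 2, 2, 0, 3, 3, 0, 2, 2, 1, 3, 1, 2, 2, 2, 2, 2, 2, 1, 3],
    mu := [0, 2, 2, 0, 3, 3, 3, 0, 2, 0, 2, 2, 1, 2, 1, 2, 2, 1, 3, 3, 1, 2] },
  { p := 3, q := 3, r := 11, wx := [0, 3, 0, 3], wy := [1, 3, 0, 3, 0, 0],
    tx := [19, 0, 6, 3, 4, 15, 7, 2, 12, 10, 17, 11, 13, 8, 5, 14, 18, 9, 22, 1, 20, 21, 16, 23],
    txi := [1, 19, 7, 3, 4, 14, 2, 6, 13, 17, 9, 11, 8, 12, 15, 5, 22, 10, 16, 0, 20, 21, 18, 23],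
    ty := [4, 1, 2, 13, 5, 0, 10, 8, 15, 9, 11, 6, 3, 12, 16, 7, 20, 22, 18, 19, 14, 17, 21, 23],
    tyi := [5, 1, 2, 12, 0, 4, 11, 15, 7, 9, 6, 10, 13, 3, 20, 8, 14, 21, 18, 19, 16, 22, 17, 23],
    ms := [2, 1, 2, 0, 3, 0, 3, 1, 3, 1, 3, 1, 3, 1, 3, 1, 2, 0, 2, 0, 2],
    mu := [0, 3, 1, 2, 0, 3, 1, 2, 0, 3, 0, 3, 1, 3, 1, 3, 1, 3, 1] },
  { p := 3, q := 3, r := 23, wx := [0, 3, 0, 3], wy := [0, 0, 3, 1, 1, 4, 4, 0],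
    tx := [19, 0, 6, 3, 4, 15, 7, 2, 12, 10, 17, 11, 13, 8, 5, 14, 18, 9, 22, 1, 20, 21, 16, 23],
    txi := [1, 19, 7, 3, 4, 14, 2, 6, 13, 17, 9, 11, 8, 12, 15, 5, 22, 10, 16, 0, 20, 21, 18, 23],
    ty := [2, 15, 20, 16, 18, 8, 6, 7, 19, 1, 10, 21, 3, 13, 11, 9, 12, 4, 17, 5, 0, 14, 22, 23],
    tyi := [20, 9, 0, 12, 17, 19, 6, 7, 5, 15, 10, 14, 16, 13, 21, 1, 3, 18, 4, 8, 2, 11, 22, 23],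
    ms := [2, 0, 2, 1, 3, 1, 3, 0, 2, 1, 3, 0, 3, 0, 2, 0, 3, 0, 3, 1, 2, 0, 3],
    mu := [0, 2, 0, 3, 1, 2, 1, 2, 0, 2, 0, 2, 1, 2, 1, 2, 1, 3, 0, 3, 0, 2] },
  { p := 3, q := 5, r := 5, wx := [3, 3, 1, 4, 1, 3, 3], wy := [1, 3, 1, 1],
    tx := [2, 1, 17, 3, 18, 5, 12, 7, 13, 8, 19, 6, 11, 9, 14, 10, 22, 0, 20, 15, 4, 16, 21, 23],
    txi := [17, 1, 0, 3, 20, 5, 11, 7, 9, 13, 15, 12, 6, 8, 14, 19, 21, 2, 4, 10, 18, 22, 16, 23],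
    ty := [19, 13, 22, 17, 5, 2, 1, 20, 0, 4, 15, 11, 6, 18, 7, 8, 16, 14, 12, 10, 3, 21, 9, 23],
    tyi := [8, 6, 5, 20, 9, 4, 12, 14, 15, 22, 19, 11, 18, 1, 17, 10, 16, 3, 13, 0, 7, 21, 2, 23],
    ms := [3, 3, 0, 3, 1, 2, 2, 1, 2, 1, 2, 0, 3, 1, 2, 2],
    mu := [2, 1, 3, 3, 0, 2, 1, 3, 0, 3, 3, 1, 3, 1, 2, 2, 0] },
  { p := 3, q := 5, r := 7, wx := [0, 3, 0, 3], wy := [0, 3, 3],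
    tx := [19, 0, 6, 3, 4, 15, 7, 2, 12, 10, 17, 11, 13, 8, 5, 14, 18, 9, 22, 1, 20, 21, 16, 23],
    txi := [1, 19, 7, 3, 4, 14, 2, 6, 13, 17, 9, 11, 8, 12, 15, 5, 22, 10, 16, 0, 20, 21, 18, 23],
    ty := [1, 5, 2, 4, 7, 21, 19, 22, 14, 9, 6, 0, 17, 13, 12, 16, 10, 20, 3, 15, 8, 11, 18, 23],
    tyi := [11, 0, 2, 18, 3, 1, 10, 4, 20, 9, 16, 21, 14, 13, 8, 19, 15, 12, 22, 6, 17, 5, 7, 23],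
    ms := [2, 1, 2, 1, 3, 3, 0, 2, 2, 0, 3, 1, 2, 1, 3, 3, 1],
    mu := [2, 2, 0, 3, 0, 3, 1, 2, 1, 2, 1, 3, 3, 0, 2, 2, 0, 3, 0] },
  { p := 3, q := 5, r := 11, wx := [0, 3, 0, 3], wy := [1, 3, 0],
    tx := [19, 0, 6, 3, 4, 15, 7, 2, 12, 10, 17, 11, 13, 8, 5, 14, 18, 9, 22, 1, 20, 21, 16, 23],
    txi := [1, 19, 7, 3, 4, 14, 2, 6, 13, 17, 9, 11, 8, 12, 15, 5, 22, 10, 16, 0, 20, 21, 18, 23],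
    ty := [17, 5, 2, 1, 20, 0, 4, 15, 11, 6, 18, 7, 8, 16, 14, 12, 10, 3, 21, 9, 19, 13, 22, 23],
    tyi := [5, 3, 2, 17, 6, 1, 9, 11, 12, 19, 16, 8, 15, 21, 14, 7, 13, 0, 10, 20, 4, 18, 22, 23],
    ms := [1, 3, 3, 0, 2, 1, 3, 1, 2, 2, 0, 3, 1, 2, 0, 2, 0],
    mu := [3, 1, 3, 1, 2, 0, 2, 1, 3, 1, 2, 0, 2, 2, 1, 3, 1] },
  { p := 3, q := 5, r := 23, wx := [0, 3, 0, 3], wy := [4, 1, 4],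
    tx := [19, 0, 6, 3, 4, 15, 7, 2, 12, 10, 17, 11, 13, 8, 5, 14, 18, 9, 22, 1, 20, 21, 16, 23],
    txi := [1, 19, 7, 3, 4, 14, 2, 6, 13, 17, 9, 11, 8, 12, 15, 5, 22, 10, 16, 0, 20, 21, 18, 23],
    ty := [19, 7, 3, 4, 14, 2, 6, 13, 17, 9, 11, 8, 12, 15, 5, 22, 10, 16, 0, 20, 21, 18, 1, 23],
    tyi := [18, 22, 5, 2, 3, 14, 6, 1, 11, 9, 16, 10, 12, 7, 4, 13, 17, 8, 21, 0, 19, 20, 15, 23],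
    ms := [0, 2],
    mu := [0, 3, 0, 2, 2, 0, 2, 1, 3, 0, 2, 1, 3, 3, 0, 2, 0, 3] },
  { p := 3, q := 7, r := 7, wx := [1, 4, 1, 4], wy := [0, 0, 0, 0, 3],
    tx := [18, 6, 2, 3, 13, 1, 5, 12, 16, 8, 10, 7, 11, 14, 4, 21, 9, 15, 22, 19, 20, 17, 0, 23],
    txi := [22, 5, 2, 3, 14, 6, 1, 11, 9, 16, 10, 12, 7, 4, 13, 17, 8, 21, 0, 19, 20, 15, 18, 23],
    ty := [4, 22, 10, 7, 6, 2, 5, 9, 20, 16, 11, 0, 12, 13, 21, 19, 17, 15, 8, 3, 14, 1, 18, 23],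
    tyi := [11, 21, 5, 19, 0, 6, 4, 3, 18, 7, 2, 10, 12, 13, 20, 17, 9, 16, 22, 15, 8, 14, 1, 23],
    ms := [2, 2, 0, 3, 3, 1, 3, 1, 2, 2, 2, 0, 3, 0, 3, 0],
    mu := [3, 1, 3, 1, 2, 0, 3, 1, 3, 1, 3, 0, 2, 0, 2, 2] },
  { p := 3, q := 7, r := 11, wx := [0, 3, 0, 3], wy := [3, 0, 0],
    tx := [19, 0, 6, 3, 4, 15, 7, 2, 12, 10, 17, 11, 13, 8, 5, 14, 18, 9, 22, 1, 20, 21, 16, 23],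
    txi := [1, 19, 7, 3, 4, 14, 2, 6, 13, 17, 9, 11, 8, 12, 15, 5, 22, 10, 16, 0, 20, 21, 18, 23],
    ty := [6, 3, 2, 21, 1, 5, 16, 12, 7, 19, 8, 9, 17, 15, 13, 11, 4, 22, 10, 20, 14, 0, 18, 23],
    tyi := [21, 4, 2, 1, 16, 5, 0, 8, 10, 11, 18, 15, 7, 14, 20, 13, 6, 12, 22, 9, 19, 3, 17, 23],
    ms := [1, 3, 3, 1, 3, 1, 3, 0, 3, 3, 1, 2, 2, 1, 2, 0, 2],
    mu := [3, 0, 3, 3, 3, 1, 2, 0, 3, 3, 1, 2, 1, 2, 1, 2, 0, 3] },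
  { p := 3, q := 7, r := 23, wx := [0, 3, 0, 3], wy := [0, 0, 3, 0],
    tx := [19, 0, 6, 3, 4, 15, 7, 2, 12, 10, 17, 11, 13, 8, 5, 14, 18, 9, 22, 1, 20, 21, 16, 23],
    txi := [1, 19, 7, 3, 4, 14, 2, 6, 13, 17, 9, 11, 8, 12, 15, 5, 22, 10, 16, 0, 20, 21, 18, 23],
    ty := [20, 8, 5, 4, 0, 3, 7, 18, 14, 9, 21, 10, 11, 19, 17, 15, 13, 6, 1, 12, 22, 16, 2, 23],
    tyi := [4, 18, 22, 5, 3, 2, 17, 6, 1, 9, 11, 12, 19, 16, 8, 15, 21, 14, 7, 13, 0, 10, 20, 23],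
    ms := [2, 1, 2, 0, 3, 1, 2, 2, 0, 3, 3, 1, 3, 3, 3, 0, 2, 0],
    mu := [1, 2, 0, 3, 1, 2, 2, 0, 3, 3, 1, 3, 3, 3, 0, 2, 1] },
  { p := 3, q := 11, r := 11, wx := [0, 3, 0, 3], wy := [1, 3, 0, 4],
    tx := [19, 0, 6, 3, 4, 15, 7, 2, 12, 10, 17, 11, 13, 8, 5, 14, 18, 9, 22, 1, 20, 21, 16, 23],
    txi := [1, 19, 7, 3, 4, 14, 2, 6, 13, 17, 9, 11, 8, 12, 15, 5, 22, 10, 16, 0, 20, 21, 18, 23],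
    ty := [17, 4, 20, 1, 21, 15, 2, 18, 8, 16, 19, 3, 6, 10, 22, 12, 11, 14, 5, 7, 13, 0, 9, 23],
    tyi := [21, 3, 6, 11, 1, 18, 12, 19, 8, 22, 13, 16, 15, 20, 17, 5, 9, 0, 7, 10, 2, 4, 14, 23],
    ms := [2, 2, 2, 2, 0, 2, 2, 2, 0, 3, 1, 3, 0, 3, 0, 2, 1],
    mu := [0, 3, 0, 3, 1, 3, 0, 3, 0, 2, 1, 2, 2, 0, 2, 1] },
  { p := 3, q := 11, r := 23, wx := [0, 3, 0, 3], wy := [1, 3, 0, 0, 4],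
    tx := [19, 0, 6, 3, 4, 15, 7, 2, 12, 10, 17, 11, 13, 8, 5, 14, 18, 9, 22, 1, 20, 21, 16, 23],
    txi := [1, 19, 7, 3, 4, 14, 2, 6, 13, 17, 9, 11, 8, 12, 15, 5, 22, 10, 16, 0, 20, 21, 18, 23],
    ty := [5, 15, 0, 20, 9, 11, 1, 7, 16, 14, 13, 21, 18, 3, 17, 10, 6, 12, 2, 8, 22, 4, 19, 23],
    tyi := [2, 6, 18, 13, 21, 0, 16, 7, 19, 4, 15, 5, 17, 10, 9, 1, 8, 14, 12, 22, 3, 11, 20, 23],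
    ms := [3, 0, 2, 1, 2, 2, 2, 2, 0, 3, 1, 2, 2, 2, 0, 3, 3, 3],
    mu := [1, 2, 1, 2, 2, 1, 3, 1, 3, 3, 3, 1, 3, 3, 1, 3, 3, 3] },
  { p := 3, q := 23, r := 23, wx := [0, 3, 0, 3], wy := [0, 0, 0],
    tx := [19, 0, 6, 3, 4, 15, 7, 2, 12, 10, 17, 11, 13, 8, 5, 14, 18, 9, 22, 1, 20, 21, 16, 23],
    txi := [1, 19, 7, 3, 4, 14, 2, 6, 13, 17, 9, 11, 8, 12, 15, 5, 22, 10, 16, 0, 20, 21, 18, 23],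
    ty := [3, 4, 5, 6, 7, 8, 9, 10, 11, 12, 13, 14, 15, 16, 17, 18, 19, 20, 21, 22, 0, 1, 2, 23],
    tyi := [20, 21, 22, 0, 1, 2, 3, 4, 5, 6, 7, 8, 9, 10, 11, 12, 13, 14, 15, 16, 17, 18, 19, 23],
    ms := [2, 2, 2, 2, 2, 2, 2, 2],
    mu := [0, 2, 0, 3, 0, 3, 3, 1, 3, 1, 2, 0, 2, 0, 2] },
  { p := 5, q := 5, r := 5, wx := [3], wy := [0, 4, 1, 4, 1],
    tx := [0, 18, 6, 3, 2, 21, 1, 5, 16, 12, 7, 19, 8, 9, 17, 15, 13, 11, 4, 22, 10, 20, 14, 23],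
    txi := [0, 6, 4, 3, 18, 7, 2, 10, 12, 13, 20, 17, 9, 16, 22, 15, 8, 14, 1, 11, 21, 5, 19, 23],
    ty := [2, 20, 8, 4, 5, 15, 3, 7, 14, 18, 10, 12, 9, 13, 16, 6, 0, 11, 17, 1, 21, 22, 19, 23],
    tyi := [16, 19, 0, 6, 3, 4, 15, 7, 2, 12, 10, 17, 11, 13, 8, 5, 14, 18, 9, 22, 1, 20, 21, 23],
    ms := [3, 0, 3, 0, 0, 3, 0, 2, 1, 3, 0, 2, 0, 2, 1, 2],
    mu := [0] },
  { p := 5, q := 5, r := 7, wx := [3], wy := [0, 3, 0, 4, 0],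
    tx := [0, 18, 6, 3, 2, 21, 1, 5, 16, 12, 7, 19, 8, 9, 17, 15, 13, 11, 4, 22, 10, 20, 14, 23],
    txi := [0, 6, 4, 3, 18, 7, 2, 10, 12, 13, 20, 17, 9, 16, 22, 15, 8, 14, 1, 11, 21, 5, 19, 23],
    ty := [6, 22, 3, 0, 17, 4, 20, 10, 18, 21, 5, 8, 12, 1, 14, 13, 16, 7, 9, 15, 2, 11, 19, 23],
    tyi := [3, 13, 20, 2, 5, 10, 0, 17, 11, 18, 7, 21, 12, 15, 14, 19, 16, 4, 8, 22, 6, 9, 1, 23],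
    ms := [2, 1, 2, 2, 0, 2, 1, 3, 0, 0, 2, 2, 1, 3, 1],
    mu := [0] },
  { p := 5, q := 5, r := 11, wx := [3], wy := [0, 4, 1],
    tx := [0, 18, 6, 3, 2, 21, 1, 5, 16, 12, 7, 19, 8, 9, 17, 15, 13, 11, 4, 22, 10, 20, 14, 23],
    txi := [0, 6, 4, 3, 18, 7, 2, 10, 12, 13, 20, 17, 9, 16, 22, 15, 8, 14, 1, 11, 21, 5, 19, 23],
    ty := [20, 1, 7, 5, 4, 19, 8, 3, 11, 13, 14, 21, 18, 10, 17, 0, 16, 9, 15, 2, 12, 22, 6, 23],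
    tyi := [15, 1, 19, 7, 4, 3, 22, 2, 6, 17, 13, 8, 20, 9, 10, 18, 16, 14, 12, 5, 0, 11, 21, 23],
    ms := [1, 3, 3, 1, 1, 2, 0, 2, 0, 3, 3, 1, 3, 1, 3],
    mu := [0] },
  { p := 5, q := 5, r := 23, wx := [3], wy := [0, 3, 3],
    tx := [0, 18, 6, 3, 2, 21, 1, 5, 16, 12, 7, 19, 8, 9, 17, 15, 13, 11, 4, 22, 10, 20, 14, 23],
    txi := [0, 6, 4, 3, 18, 7, 2, 10, 12, 13, 20, 17, 9, 16, 22, 15, 8, 14, 1, 11, 21, 5, 19, 23],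
    ty := [1, 5, 2, 4, 7, 21, 19, 22, 14, 9, 6, 0, 17, 13, 12, 16, 10, 20, 3, 15, 8, 11, 18, 23],
    tyi := [11, 0, 2, 18, 3, 1, 10, 4, 20, 9, 16, 21, 14, 13, 8, 19, 15, 12, 22, 6, 17, 5, 7, 23],
    ms := [2, 1, 1],
    mu := [0] },
  { p := 5, q := 7, r := 7, wx := [3], wy := [0, 3, 0, 0],
    tx := [0, 18, 6, 3, 2, 21, 1, 5, 16, 12, 7, 19, 8, 9, 17, 15, 13, 11, 4, 22, 10, 20, 14, 23],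
    txi := [0, 6, 4, 3, 18, 7, 2, 10, 12, 13, 20, 17, 9, 16, 22, 15, 8, 14, 1, 11, 21, 5, 19, 23],
    ty := [7, 4, 3, 22, 2, 6, 17, 13, 8, 20, 9, 10, 18, 16, 14, 12, 5, 0, 11, 21, 15, 1, 19, 23],
    tyi := [17, 21, 4, 2, 1, 16, 5, 0, 8, 10, 11, 18, 15, 7, 14, 20, 13, 6, 12, 22, 9, 19, 3, 23],
    ms := [0, 3, 3, 1, 2, 0, 0, 2, 1, 2, 1, 3, 3, 1],
    mu := [0] },
  { p := 5, q := 7, r := 11, wx := [3], wy := [0, 4, 1, 1, 1],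
    tx := [0, 18, 6, 3, 2, 21, 1, 5, 16, 12, 7, 19, 8, 9, 17, 15, 13, 11, 4, 22, 10, 20, 14, 23],
    txi := [0, 6, 4, 3, 18, 7, 2, 10, 12, 13, 20, 17, 9, 16, 22, 15, 8, 14, 1, 11, 21, 5, 19, 23],
    ty := [22, 6, 20, 1, 7, 5, 4, 19, 8, 3, 11, 13, 14, 21, 18, 10, 17, 0, 16, 9, 15, 2, 12, 23],
    tyi := [17, 3, 21, 9, 6, 5, 1, 4, 8, 19, 15, 10, 22, 11, 12, 20, 18, 16, 14, 7, 2, 13, 0, 23],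
    ms := [1, 3, 1, 1, 2, 0, 0, 3, 1, 1, 3, 1, 1, 3, 0],
    mu := [0] },
  { p := 5, q := 7, r := 23, wx := [3], wy := [1, 1, 4],
    tx := [0, 18, 6, 3, 2, 21, 1, 5, 16, 12, 7, 19, 8, 9, 17, 15, 13, 11, 4, 22, 10, 20, 14, 23],
    txi := [0, 6, 4, 3, 18, 7, 2, 10, 12, 13, 20, 17, 9, 16, 22, 15, 8, 14, 1, 11, 21, 5, 19, 23],
    ty := [21, 4, 2, 1, 16, 5, 0, 8, 10, 11, 18, 15, 7, 14, 20, 13, 6, 12, 22, 9, 19, 3, 17, 23],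
    tyi := [6, 3, 2, 21, 1, 5, 16, 12, 7, 19, 8, 9, 17, 15, 13, 11, 4, 22, 10, 20, 14, 0, 18, 23],
    ms := [3, 0, 0, 3, 0, 2, 1, 1, 3, 3, 1, 3, 1, 2, 2],
    mu := [0] },
  { p := 5, q := 11, r := 11, wx := [3], wy := [0, 0, 4, 1, 3],
    tx := [0, 18, 6, 3, 2, 21, 1, 5, 16, 12, 7, 19, 8, 9, 17, 15, 13, 11, 4, 22, 10, 20, 14, 23],
    txi := [0, 6, 4, 3, 18, 7, 2, 10, 12, 13, 20, 17, 9, 16, 22, 15, 8, 14, 1, 11, 21, 5, 19, 23],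
    ty := [21, 16, 9, 6, 8, 0, 2, 20, 17, 19, 4, 3, 12, 14, 10, 1, 11, 22, 5, 7, 15, 13, 18, 23],
    tyi := [5, 15, 6, 11, 10, 18, 3, 19, 4, 2, 14, 16, 12, 21, 13, 20, 1, 8, 22, 9, 7, 0, 17, 23],
    ms := [3, 3, 3, 3, 3, 0, 3, 1, 3, 1, 2, 0, 2, 2, 0],
    mu := [0] },
  { p := 5, q := 11, r := 23, wx := [3], wy := [0, 4, 0, 3],
    tx := [0, 18, 6, 3, 2, 21, 1, 5, 16, 12, 7, 19, 8, 9, 17, 15, 13, 11, 4, 22, 10, 20, 14, 23],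
    txi := [0, 6, 4, 3, 18, 7, 2, 10, 12, 13, 20, 17, 9, 16, 22, 15, 8, 14, 1, 11, 21, 5, 19, 23],
    ty := [7, 12, 11, 19, 4, 20, 5, 3, 15, 17, 13, 22, 14, 21, 2, 9, 0, 10, 8, 1, 18, 6, 16, 23],
    tyi := [16, 19, 14, 7, 4, 6, 21, 0, 18, 15, 17, 2, 1, 10, 12, 8, 22, 9, 20, 3, 5, 13, 11, 23],
    ms := [0, 0, 3, 0, 2, 0, 3, 3, 0, 0, 2, 0, 3, 1, 3],
    mu := [0] },
  { p := 5, q := 23, r := 23, wx := [3, 3], wy := [1],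
    tx := [0, 4, 1, 3, 6, 20, 18, 21, 13, 8, 5, 22, 16, 12, 11, 15, 9, 19, 2, 14, 7, 10, 17, 23],
    txi := [0, 2, 18, 3, 1, 10, 4, 20, 9, 16, 21, 14, 13, 8, 19, 15, 12, 22, 6, 17, 5, 7, 11, 23],
    ty := [22, 0, 1, 2, 3, 4, 5, 6, 7, 8, 9, 10, 11, 12, 13, 14, 15, 16, 17, 18, 19, 20, 21, 23],
    tyi := [1, 2, 3, 4, 5, 6, 7, 8, 9, 10, 11, 12, 13, 14, 15, 16, 17, 18, 19, 20, 21, 22, 0, 23],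
    ms := [3],
    mu := [1, 1] },
  { p := 7, q := 7, r := 7, wx := [0, 0, 3], wy := [0, 0, 0, 0, 3],
    tx := [2, 20, 8, 5, 4, 0, 3, 7, 18, 14, 9, 21, 10, 11, 19, 17, 15, 13, 6, 1, 12, 22, 16, 23],
    txi := [5, 19, 0, 6, 4, 3, 18, 7, 2, 10, 12, 13, 20, 17, 9, 16, 22, 15, 8, 14, 1, 11, 21, 23],
    ty := [4, 22, 10, 7, 6, 2, 5, 9, 20, 16, 11, 0, 12, 13, 21, 19, 17, 15, 8, 3, 14, 1, 18, 23],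
    tyi := [11, 21, 5, 19, 0, 6, 4, 3, 18, 7, 2, 10, 12, 13, 20, 17, 9, 16, 22, 15, 8, 14, 1, 23],
    ms := [1, 1, 1, 3, 3, 0, 2, 1, 1, 1, 2, 0, 3, 1, 3],
    mu := [0, 3, 0] },
  { p := 7, q := 7, r := 11, wx := [0, 0, 3], wy := [1, 4, 1],
    tx := [2, 20, 8, 5, 4, 0, 3, 7, 18, 14, 9, 21, 10, 11, 19, 17, 15, 13, 6, 1, 12, 22, 16, 23],
    txi := [5, 19, 0, 6, 4, 3, 18, 7, 2, 10, 12, 13, 20, 17, 9, 16, 22, 15, 8, 14, 1, 11, 21, 23],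
    ty := [18, 22, 5, 3, 2, 17, 6, 1, 9, 11, 12, 19, 16, 8, 15, 21, 14, 7, 13, 0, 10, 20, 4, 23],
    tyi := [19, 7, 4, 3, 22, 2, 6, 17, 13, 8, 20, 9, 10, 18, 16, 14, 12, 5, 0, 11, 21, 15, 1, 23],
    ms := [3, 3, 1, 1, 2, 0, 0, 2, 0, 0, 0, 3, 1, 2, 0, 0],
    mu := [2, 0, 3, 0, 2, 0, 2, 2, 0, 0, 3, 3, 0] },
  { p := 7, q := 7, r := 23, wx := [0, 0, 3], wy := [1, 1, 4],
    tx := [2, 20, 8, 5, 4, 0, 3, 7, 18, 14, 9, 21, 10, 11, 19, 17, 15, 13, 6, 1, 12, 22, 16, 23],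
    txi := [5, 19, 0, 6, 4, 3, 18, 7, 2, 10, 12, 13, 20, 17, 9, 16, 22, 15, 8, 14, 1, 11, 21, 23],
    ty := [21, 4, 2, 1, 16, 5, 0, 8, 10, 11, 18, 15, 7, 14, 20, 13, 6, 12, 22, 9, 19, 3, 17, 23],
    tyi := [6, 3, 2, 21, 1, 5, 16, 12, 7, 19, 8, 9, 17, 15, 13, 11, 4, 22, 10, 20, 14, 0, 18, 23],
    ms := [1, 3, 1, 2, 0, 2, 0, 2, 2, 2, 1, 3, 1, 3, 3],
    mu := [1, 2, 0, 3, 1, 1, 1, 2, 1, 3, 1, 3, 1, 1, 3, 0] },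
  { p := 7, q := 11, r := 11, wx := [0, 0, 3], wy := [0, 4, 1, 3],
    tx := [2, 20, 8, 5, 4, 0, 3, 7, 18, 14, 9, 21, 10, 11, 19, 17, 15, 13, 6, 1, 12, 22, 16, 23],
    txi := [5, 19, 0, 6, 4, 3, 18, 7, 2, 10, 12, 13, 20, 17, 9, 16, 22, 15, 8, 14, 1, 11, 21, 23],
    ty := [20, 15, 8, 5, 7, 22, 1, 19, 16, 18, 3, 2, 11, 13, 9, 0, 10, 21, 4, 6, 14, 12, 17, 23],
    tyi := [15, 6, 11, 10, 18, 3, 19, 4, 2, 14, 16, 12, 21, 13, 20, 1, 8, 22, 9, 7, 0, 17, 5, 23],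
    ms := [1, 2, 2, 1, 1, 3, 0, 2, 2, 0, 0, 2, 0, 2, 2],
    mu := [3, 0, 0, 3, 3, 1, 3, 0, 3, 0, 0, 0] },
  { p := 7, q := 11, r := 23, wx := [0, 0, 3], wy := [1, 3, 0, 4],
    tx := [2, 20, 8, 5, 4, 0, 3, 7, 18, 14, 9, 21, 10, 11, 19, 17, 15, 13, 6, 1, 12, 22, 16, 23],
    txi := [5, 19, 0, 6, 4, 3, 18, 7, 2, 10, 12, 13, 20, 17, 9, 16, 22, 15, 8, 14, 1, 11, 21, 23],
    ty := [17, 4, 20, 1, 21, 15, 2, 18, 8, 16, 19, 3, 6, 10, 22, 12, 11, 14, 5, 7, 13, 0, 9, 23],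
    tyi := [21, 3, 6, 11, 1, 18, 12, 19, 8, 22, 13, 16, 15, 20, 17, 5, 9, 0, 7, 10, 2, 4, 14, 23],
    ms := [3, 3, 0, 0, 0, 2, 2, 1, 1, 3, 1, 2, 1, 3, 3],
    mu := [0, 2, 0, 3, 1, 3, 3, 1, 2, 0, 3, 0, 3, 0, 0, 2] },
  { p := 7, q := 23, r := 23, wx := [0, 0, 4, 4], wy := [1],
    tx := [2, 4, 20, 5, 3, 12, 6, 22, 11, 18, 0, 16, 15, 10, 21, 17, 14, 1, 8, 19, 7, 9, 13, 23],
    txi := [10, 17, 0, 4, 1, 3, 6, 20, 18, 21, 13, 8, 5, 22, 16, 12, 11, 15, 9, 19, 2, 14, 7, 23],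
    ty := [22, 0, 1, 2, 3, 4, 5, 6, 7, 8, 9, 10, 11, 12, 13, 14, 15, 16, 17, 18, 19, 20, 21, 23],
    tyi := [1, 2, 3, 4, 5, 6, 7, 8, 9, 10, 11, 12, 13, 14, 15, 16, 17, 18, 19, 20, 21, 22, 0, 23],
    ms := [3],
    mu := [2, 2, 0, 2, 2, 0] },
  { p := 11, q := 11, r := 11, wx := [0, 3, 0, 4], wy := [0, 4, 0, 3],
    tx := [19, 6, 22, 3, 0, 17, 4, 20, 10, 18, 21, 5, 8, 12, 1, 14, 13, 16, 7, 9, 15, 2, 11, 23],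
    txi := [4, 14, 21, 3, 6, 11, 1, 18, 12, 19, 8, 22, 13, 16, 15, 20, 17, 5, 9, 0, 7, 10, 2, 23],
    ty := [7, 12, 11, 19, 4, 20, 5, 3, 15, 17, 13, 22, 14, 21, 2, 9, 0, 10, 8, 1, 18, 6, 16, 23],
    tyi := [16, 19, 14, 7, 4, 6, 21, 0, 18, 15, 17, 2, 1, 10, 12, 8, 22, 9, 20, 3, 5, 13, 11, 23],
    ms := [3, 0, 3, 0, 3, 3, 3, 1, 1, 1, 2, 0, 3, 0],
    mu := [0, 2, 1, 3, 0, 3, 3, 1, 2, 1, 1, 2, 1, 3] },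
  { p := 11, q := 11, r := 23, wx := [0, 3, 0, 4], wy := [3, 0, 4, 1],
    tx := [19, 6, 22, 3, 0, 17, 4, 20, 10, 18, 21, 5, 8, 12, 1, 14, 13, 16, 7, 9, 15, 2, 11, 23],
    txi := [4, 14, 21, 3, 6, 11, 1, 18, 12, 19, 8, 22, 13, 16, 15, 20, 17, 5, 9, 0, 7, 10, 2, 23],
    ty := [10, 18, 5, 21, 2, 22, 16, 3, 19, 9, 17, 20, 4, 7, 11, 0, 13, 12, 15, 6, 8, 14, 1, 23],
    tyi := [15, 22, 4, 7, 12, 2, 19, 13, 20, 9, 0, 14, 17, 16, 21, 18, 6, 10, 1, 8, 11, 3, 5, 23],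
    ms := [1, 1, 1, 2, 2, 0, 0, 3, 3, 3, 1, 1, 1, 2],
    mu := [1, 2, 2, 2, 0, 3, 1, 1, 1, 2, 1, 1, 1, 1, 1] },
  { p := 11, q := 23, r := 23, wx := [0, 3, 0, 4], wy := [1],
    tx := [19, 6, 22, 3, 0, 17, 4, 20, 10, 18, 21, 5, 8, 12, 1, 14, 13, 16, 7, 9, 15, 2, 11, 23],
    txi := [4, 14, 21, 3, 6, 11, 1, 18, 12, 19, 8, 22, 13, 16, 15, 20, 17, 5, 9, 0, 7, 10, 2, 23],
    ty := [22, 0, 1, 2, 3, 4, 5, 6, 7, 8, 9, 10, 11, 12, 13, 14, 15, 16, 17, 18, 19, 20, 21, 23],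
    tyi := [1, 2, 3, 4, 5, 6, 7, 8, 9, 10, 11, 12, 13, 14, 15, 16, 17, 18, 19, 20, 21, 22, 0, 23],
    ms := [3],
    mu := [1, 1, 1, 2, 2, 0, 3, 1, 1, 2, 1, 1, 1] },
  { p := 23, q := 23, r := 23, wx := [0], wy := [4, 1, 1, 3],
    tx := [1, 2, 3, 4, 5, 6, 7, 8, 9, 10, 11, 12, 13, 14, 15, 16, 17, 18, 19, 20, 21, 22, 0, 23],
    txi := [22, 0, 1, 2, 3, 4, 5, 6, 7, 8, 9, 10, 11, 12, 13, 14, 15, 16, 17, 18, 19, 20, 21, 23],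
    ty := [5, 8, 18, 6, 0, 11, 19, 3, 22, 20, 7, 14, 2, 10, 15, 16, 17, 13, 4, 21, 12, 1, 9, 23],
    tyi := [4, 21, 12, 7, 18, 0, 3, 10, 1, 22, 13, 5, 20, 17, 11, 14, 15, 16, 2, 6, 9, 19, 8, 23],
    ms := [0],
    mu := [3, 3, 0, 3, 3, 1, 1, 1, 1, 2, 1, 2, 2] }]

theorem certs_ok : certs.all check = true := by decide +kernel

/-- the primes dividing the order of `M23` -/
def primes23 : List ℕ := [2, 3, 5, 7, 11, 23]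

theorem certs_cover : ∀ p ∈ primes23, ∀ q ∈ primes23, ∀ r ∈ primes23, p ≤ q → q ≤ r → ¬ (p = 2 ∧ q = 2) →
    ¬ ((p = 2 ∧ q = 3) ∨ (p = 2 ∧ q = 5 ∧ r = 5) ∨ (p = 2 ∧ q = 5 ∧ r = 7) ∨ (p = 3 ∧ q = 3 ∧ r ≤ 7)) →
    (certs.any fun c => c.p == p && c.q == q && c.r == r) = true := by
  decide +kernel

end Cfsg.Agent.Lib.H5.M23Gen
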