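import Mathlib
import Cfsg.Agent.Lib.H5.Ree.Cycles
import Cfsg.Agent.Lib.H27.OutM23
import Cfsg.Agent.Lib.H28.InvolutionClasses

/-!
# Non-generation of `M23` by some triples of prime orders, by Ree's inequality
-/

set_option autoImplicit false

namespace Cfsg.Agent.Lib.H5.M23Gen

open Cfsg Cfsg.Agent.Lib.H28 Cfsg.Agent.Lib.H27 Cfsg.Agent.Lib.H27.OutM Cfsg.Agent.Lib.H5

/-- `M23` has at most two orbits on the 24 points -/
theorem orb_M23_le : Ree.orb Spor.M23 ≤ 2 := by
  classical
  unfold Ree.orb
  let f : MulAction.orbitRel.Quotient Spor.M23 GolayPt → Bool := fun q =>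
    decide (q = Quotient.mk _ (none : GolayPt))
  have hf : Function.Injective f := by
    intro q q' hqq
    induction q using Quotient.inductionOn with
    | h a =>
    induction q' using Quotient.inductionOn with
    | h b =>
    by_cases ha : (Quotient.mk (MulAction.orbitRel Spor.M23 GolayPt) a) = Quotient.mk _ (none : GolayPt)
    · have hb : (Quotient.mk (MulAction.orbitRel Spor.M23 GolayPt) b) = Quotient.mk _ (none : GolayPt) := by
        have h1 : f (Quotient.mk _ a) = true := decide_eq_true ha
        rw [hqq] at h1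
        exact of_decide_eq_true h1
      rw [ha, hb]
    · have hb : (Quotient.mk (MulAction.orbitRel Spor.M23 GolayPt) b) ≠ Quotient.mk _ (none : GolayPt) := by
        have h1 : f (Quotient.mk _ a) = false := decide_eq_false ha
        rw [hqq] at h1
        exact of_decide_eq_false h1
      have ha' : a ≠ none := fun h => ha (by rw [h])
      have hb' : b ≠ none := fun h => hb (by rw [h])
      apply Quotient.sound
      -- `a` is in the orbit of `b`
      have hx : Function.Injective (![none, b] : Fin 2 → GolayPt) := by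
        intro i j hij
        fin_cases i <;> fin_cases j <;> simp_all [eq_comm]
      have hy : Function.Injective (![none, a] : Fin 2 → GolayPt) := by
        intro i j hij
        fin_cases i <;> fin_cases j <;> simp_all [eq_comm]
      obtain ⟨g, hg, hmap⟩ := exists_M24_map (by norm_num : 2 ≤ 5) _ _ hx hy
      have h0 : g none = none := hmap 0
      have h1 : g b = a := hmap 1
      exact ⟨⟨g, mem_M23.2 ⟨hg, h0⟩⟩, h1⟩
  have := Nat.card_le_card_of_injective f hf
  rwa [Nat.card_eq_fintype_card (α := Bool), Fintype.card_bool] at this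

theorem fixF_eq_fixedF (g : Equiv.Perm GolayPt) : Ree.fixF g = fixedF g := by
  ext a
  rw [Ree.mem_fixF, mem_fixedF]

section

variable {g : Equiv.Perm GolayPt} (hg : g ∈ Spor.M23)

include hg

theorem one_le_fixed : 1 ≤ (fixedF g).card := by
  apply Finset.card_pos.2
  exact ⟨none, mem_fixedF.2 (mem_M23.1 hg).2⟩

omit hg in
theorem cyc_mul {p : ℕ} (hp : p.Prime) (h : orderOf g = p) :
    Ree.cyc g * p = 24 + (p - 1) * (fixedF g).card := by
  have := Ree.cyc_mul_prime g hp h
  rwa [fixF_eq_fixedF, card_GolayPt] at this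

theorem cyc_two (h : orderOf g = 2) : Ree.cyc g = 16 := by
  have h1 := cyc_mul Nat.prime_two h
  have h2 := involution_fixed_cases g (mem_M23.1 hg).1 h
  have h3 := one_le_fixed hg
  rcases h2 with h2 | h2
  · omega
  · rw [h2] at h1
    omega

theorem cyc_three (h : orderOf g = 3) : Ree.cyc g = 12 := by
  have h1 := cyc_mul Nat.prime_three h
  have h2 := order_three_fixed_cases g (mem_M23.1 hg).1 h
  have h3 := one_le_fixed hg
  rcases h2 with h2 | h2
  · omega
  · rw [h2] at h1
    omega

theorem cyc_five (h : orderOf g = 5) : 8 ≤ Ree.cyc g := by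
  have h1 := cyc_mul Nat.prime_five h
  have : Fact (Nat.Prime 5) := ⟨Nat.prime_five⟩
  have h5 : g ^ 5 ^ 1 = 1 := by rw [pow_one, ← h]; exact pow_orderOf_eq_one g
  have h2 : (fixedF g).card % 5 = 24 % 5 := card_fixedF_modEq h5
  omega

theorem cyc_seven (h : orderOf g = 7) : 6 ≤ Ree.cyc g := by
  have hp7 : Nat.Prime 7 := by norm_num
  have h1 := cyc_mul hp7 h
  have : Fact (Nat.Prime 7) := ⟨hp7⟩
  have h5 : g ^ 7 ^ 1 = 1 := by rw [pow_one, ← h]; exact pow_orderOf_eq_one g
  have h2 : (fixedF g).card % 7 = 24 % 7 := card_fixedF_modEq h5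
  omega

theorem cyc_pos {p : ℕ} (hp : p.Prime) (h : orderOf g = p) : 1 ≤ Ree.cyc g := by
  have h1 := cyc_mul hp h
  by_contra hc
  have : Ree.cyc g = 0 := by omega
  rw [this] at h1
  omega

end

/-- the negative direction -/
theorem not_excluded (x y z : Spor.M23) (p q r : ℕ) (hp : p.Prime) (hq : q.Prime) (hr : r.Prime)
    (hqr : q ≤ r)
    (ox : orderOf x = p) (oy : orderOf y = q) (oz : orderOf z = r) (h1 : x * y * z = 1)
    (hgen : Subgroup.closure {x, y} = ⊤) :
    ¬ ((p = 2 ∧ q = 3) ∨ (p = 2 ∧ q = 5 ∧ r = 5) ∨ (p = 2 ∧ q = 5 ∧ r = 7) ∨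
      (p = 3 ∧ q = 3 ∧ r ≤ 7)) := by
  have hX : (x : Equiv.Perm GolayPt) ∈ Spor.M23 := x.2
  have hY : (y : Equiv.Perm GolayPt) ∈ Spor.M23 := y.2
  have hZ : (z : Equiv.Perm GolayPt) ∈ Spor.M23 := z.2
  have oX : orderOf (x : Equiv.Perm GolayPt) = p := by rw [Subgroup.orderOf_coe]; exact ox
  have oY : orderOf (y : Equiv.Perm GolayPt) = q := by rw [Subgroup.orderOf_coe]; exact oy
  have oZ : orderOf (z : Equiv.Perm GolayPt) = r := by rw [Subgroup.orderOf_coe]; exact oz
  have h1' : (x : Equiv.Perm GolayPt) * y * z = 1 := by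
    have := congrArg Subtype.val h1
    exact this
  have hcl : Subgroup.closure {(x : Equiv.Perm GolayPt), (y : Equiv.Perm GolayPt)} = Spor.M23 := by
    have hmap : Subgroup.map Spor.M23.subtype (Subgroup.closure {x, y}) =
        Subgroup.closure {(x : Equiv.Perm GolayPt), (y : Equiv.Perm GolayPt)} := by
      rw [MonoidHom.map_closure]
      congr 1
      rw [Set.image_pair]
      rfl
    rw [← hmap, hgen, ← MonoidHom.range_eq_map, Subgroup.range_subtype]
  have hree := Ree.ree (x : Equiv.Perm GolayPt) y z h1'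
  rw [hcl, card_GolayPt] at hree
  have horb := orb_M23_le
  have hzpos := cyc_pos hZ hr oZ
  rintro (⟨rfl, rfl⟩ | ⟨rfl, rfl, rfl⟩ | ⟨rfl, rfl, rfl⟩ | ⟨rfl, rfl, hr7⟩)
  · have := cyc_two hX oX
    have := cyc_three hY oY
    omega
  · have := cyc_two hX oX
    have := cyc_five hY oY
    have := cyc_five hZ oZ
    omega
  · have := cyc_two hX oX
    have := cyc_five hY oY
    have := cyc_seven hZ oZ
    omega
  · have hx3 := cyc_three hX oX
    have hy3 := cyc_three hY oY
    have hr3 : 3 ≤ r := hqr
    interval_cases r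
    · have := cyc_three hZ oZ
      omega
    · exact absurd hr (by norm_num)
    · have := cyc_five hZ oZ
      omega
    · exact absurd hr (by norm_num)
    · have := cyc_seven hZ oZ
      omega

end Cfsg.Agent.Lib.H5.M23Gen
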